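import Groth.Prelude.Def_Mor2
import Groth.Agent.H12AlgSp.SplittingAlg
import Mathlib.AlgebraicGeometry.Morphisms.Finite
import Mathlib.AlgebraicGeometry.Morphisms.Flat
import Mathlib.AlgebraicGeometry.Morphisms.FinitePresentation
import Mathlib.AlgebraicGeometry.Pullbacks

/-! Finite morphisms to affine schemes become, after a finite locally free cover, closed in a finite
locally free scheme covered by sections. -/

set_option autoImplicit false
set_option linter.style.haveILetI false
universe u
open CategoryTheory CategoryTheory.Limits AlgebraicGeometry Polynomial TensorProduct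

namespace Groth.Agent.H17.FiniteSplit

/-- A finite free faithfully flat algebra splitting finitely many monic polynomials. -/
theorem exists_split_family (A : Type u) [CommRing A] : ∀ (n : ℕ) (P : Fin n → A[X]), (∀ i, (P i).Monic) →
    ∃ (A' : Type u) (_ : CommRing A') (_ : Algebra A A') (d : Fin n → ℕ) (a : ∀ i, Fin (d i) → A'),
      Module.Finite A A' ∧ Module.Free A A' ∧ Module.FaithfullyFlat A A' ∧
        ∀ i, (P i).map (algebraMap A A') = ∏ j, (X - C (a i j)) := by
  intro n
  induction n with
  | zero => exact fun P _ => ⟨A, inferInstance, inferInstance, Fin.elim0, fun i => i.elim0, inferInstance,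
      inferInstance, inferInstance, fun i => i.elim0⟩
  | succ n ih =>
    intro P hP
    obtain ⟨A₁, _, _, d, a, _, _, _, ha⟩ := ih (Fin.tail P) fun i => hP _
    obtain ⟨A₂, _, _, r, _, _, _, hr, -⟩ :=
      H12AlgSp.Split.exists_isSplit _ A₁ ((P 0).map (algebraMap A A₁)) ((hP 0).map _) rfl
    let _ : Algebra A A₂ := ((algebraMap A₁ A₂).comp (algebraMap A A₁)).toAlgebra
    have : IsScalarTower A A₁ A₂ := IsScalarTower.of_algebraMap_eq fun _ ↦ rfl
    refine ⟨A₂, inferInstance, inferInstance, Fin.cons ((P 0).map (algebraMap A A₁)).natDegree d,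
      Fin.cons r (fun i j => algebraMap A₁ A₂ (a i j)), Module.Finite.trans A₁ A₂, Module.Free.trans (S := A₁),
      Module.FaithfullyFlat.trans A A₁ A₂, fun i => ?_⟩
    induction i using Fin.cases with
    | zero =>
      rw [IsScalarTower.algebraMap_eq A A₁ A₂, ← Polynomial.map_map, hr.split]
      rfl
    | succ i =>
      rw [IsScalarTower.algebraMap_eq A A₁ A₂, ← Polynomial.map_map, show P i.succ = Fin.tail P i from rfl, ha i,
        Polynomial.map_prod]
      simp only [Polynomial.map_sub, Polynomial.map_X, Polynomial.map_C]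
      rfl

/-- The universal algebra with a root for each of finitely many monic polynomials. -/
theorem exists_root_algebra (A : Type u) [CommRing A] : ∀ (n : ℕ) (P : Fin n → A[X]), (∀ i, (P i).Monic) →
    ∃ (C : Type u) (_ : CommRing C) (_ : Algebra A C) (T : Fin n → C),
      Module.Finite A C ∧ Module.Free A C ∧ (∀ i, aeval (T i) (P i) = 0) ∧
        (∀ {D : Type u} [CommRing D] [Algebra A D] (φ ψ : C →ₐ[A] D), (∀ i, φ (T i) = ψ (T i)) → φ = ψ) ∧
        ∀ {D : Type u} [CommRing D] [Algebra A D] (b : Fin n → D), (∀ i, aeval (b i) (P i) = 0) →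
          ∃ φ : C →ₐ[A] D, ∀ i, φ (T i) = b i := by
  intro n
  induction n with
  | zero => exact fun P _ => ⟨A, inferInstance, inferInstance, Fin.elim0, inferInstance, inferInstance,
      fun i => i.elim0, fun φ ψ _ => Subsingleton.elim φ ψ, fun b _ => ⟨Algebra.ofId A _, fun i => i.elim0⟩⟩
  | succ n ih =>
    intro P hP
    obtain ⟨C₁, _, _, T, _, _, hT, hext, huniv⟩ := ih (Fin.tail P) fun i => hP _
    let f := (P 0).map (algebraMap A C₁)
    have hf : f.Monic := (hP 0).map _
    have := hf.free_adjoinRoot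
    have := hf.finite_adjoinRoot
    refine ⟨AdjoinRoot f, inferInstance, inferInstance,
      Fin.cons (AdjoinRoot.root f) fun i => algebraMap C₁ (AdjoinRoot f) (T i),
      Module.Finite.trans C₁ _, Module.Free.trans (S := C₁), fun i => ?_, ?_, ?_⟩
    · induction i using Fin.cases with
      | zero =>
        rw [Fin.cons_zero, ← aeval_map_algebraMap C₁]
        exact AdjoinRoot.aeval_eq f ▸ AdjoinRoot.mk_self
      | succ i =>
        rw [Fin.cons_succ, aeval_algebraMap_apply, show P i.succ = Fin.tail P i from rfl, hT i, map_zero]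
    · intro D _ _ φ ψ h
      have h₁ : φ.comp (IsScalarTower.toAlgHom A C₁ _) = ψ.comp (IsScalarTower.toAlgHom A C₁ _) :=
        hext _ _ fun i => by simpa using h i.succ
      apply AlgHom.coe_ringHom_injective
      exact AdjoinRoot.ringHom_ext (congrArg AlgHom.toRingHom h₁) (by simpa using h 0)
    · intro D _ _ b hb
      obtain ⟨φ₁, hφ₁⟩ := huniv (Fin.tail b) fun i => hb _
      have h0 : f.eval₂ φ₁.toRingHom (b 0) = 0 := by
        rw [Polynomial.eval₂_map, show φ₁.toRingHom.comp (algebraMap A C₁) = algebraMap A D from φ₁.comp_algebraMap]; exact hb 0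
      refine ⟨{ AdjoinRoot.lift φ₁.toRingHom (b 0) h0 with commutes' := fun x => ?_ }, fun i => ?_⟩
      · exact (AdjoinRoot.lift_of h0).trans (φ₁.commutes x)
      · induction i using Fin.cases with
        | zero => exact AdjoinRoot.lift_root h0
        | succ i => rw [Fin.cons_succ]; exact (AdjoinRoot.lift_of h0).trans (hφ₁ i)

theorem isFinLocFree_SpecMap {R S : Type u} [CommRing R] [CommRing S] [Algebra R S] [Module.Finite R S]
    [Module.Free R S] : Mor2.IsFinLocFree (Spec.map (CommRingCat.ofHom (algebraMap R S))) := by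
  refine ⟨?_, ?_, ?_⟩
  · rw [IsFinite.SpecMap_iff]
    exact RingHom.finite_algebraMap.2 inferInstance
  · rw [Flat.SpecMap_iff]
    exact RingHom.flat_algebraMap_iff.2 inferInstance
  · haveI : Module.FinitePresentation R S := Module.finitePresentation_of_projective R S
    rw [LocallyOfFinitePresentation.SpecMap_iff]
    exact RingHom.finitePresentation_algebraMap.2 (Algebra.FinitePresentation.of_finitePresentation R S)

theorem exists_cover {X Y : Scheme.{u}} [IsAffine X] (f : Y ⟶ X) [IsFinite f] :
    ∃ (X' : Scheme.{u}) (b : X' ⟶ X) (Z' : Scheme.{u}) (c : Z' ⟶ X') (i : pullback f b ⟶ Z'),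
      Mor2.IsFinLocFree b ∧ Surjective b ∧ Mor2.IsFinLocFree c ∧ IsClosedImmersion i ∧
      i ≫ c = pullback.snd f b ∧
      ∃ (m : ℕ) (Zj : Fin m → Scheme.{u}) (ιj : ∀ j, Zj j ⟶ Z'),
        (∀ j, IsClosedImmersion (ιj j)) ∧ (∀ j, IsIso (ιj j ≫ c)) ∧
        (⋃ j, Set.range (ιj j).base) = Set.univ := by
  classical
  haveI : IsAffine Y := isAffine_of_isAffineHom f
  let A := Γ(X, ⊤)
  let B := Γ(Y, ⊤)
  let _ : Algebra A B := f.appTop.hom.toAlgebra
  have : Module.Finite A B := IsFinite.finite_app f ⊤ (isAffineOpen_top X)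
  obtain ⟨n, g, hg⟩ : ∃ (n : ℕ) (g : Fin n → B), Algebra.adjoin A (Set.range g) = ⊤ := by
    obtain ⟨S, hS⟩ := (inferInstance : Algebra.FiniteType A B).out
    exact ⟨S.card, fun i => (S.equivFin.symm i).1, by
      rw [← hS]; congr 1; exact Set.ext fun y => ⟨fun ⟨i, hi⟩ => hi ▸ (S.equivFin.symm i).2,
        fun hy => ⟨S.equivFin ⟨y, hy⟩, by simp⟩⟩⟩
  choose P hPm hP using fun i => Algebra.IsIntegral.isIntegral (R := A) (g i)
  obtain ⟨A', _, _, d, a, _, _, _, ha⟩ := exists_split_family A n P hPm
  obtain ⟨C, _, _, T, _, _, hT, hext, huniv⟩ := exists_root_algebra A' n (fun i => (P i).map (algebraMap A A'))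
    fun i => (hPm i).map _
  -- the base change of `Y`
  let b : Spec (CommRingCat.of A') ⟶ X := Spec.map (CommRingCat.ofHom (algebraMap A A')) ≫ X.isoSpec.inv
  have hf : f = Y.isoSpec.hom ≫ Spec.map (CommRingCat.ofHom (algebraMap A B)) ≫ X.isoSpec.inv := by
    rw [← Category.assoc, Iso.eq_comp_inv]
    exact Scheme.toSpecΓ_naturality f
  have hP1 : IsPullback (pullback.fst (Spec.map (CommRingCat.ofHom (algebraMap A B)))
      (Spec.map (CommRingCat.ofHom (algebraMap A A'))) ≫ Y.isoSpec.inv) (pullback.snd _ _) f b := by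
    refine IsPullback.of_iso (IsPullback.of_hasPullback (Spec.map (CommRingCat.ofHom (algebraMap A B)))
      (Spec.map (CommRingCat.ofHom (algebraMap A A')))) (Iso.refl _) Y.isoSpec.symm (Iso.refl _) X.isoSpec.symm
      ?_ ?_ ?_ ?_
    · simp
    · simp
    · simp [hf]
    · simp [b]
  let BA := B ⊗[A] A'
  let _ : Algebra A' BA := (Algebra.TensorProduct.includeRight : A' →ₐ[A] BA).toRingHom.toAlgebra
  let e : pullback f b ≅ Spec (CommRingCat.of BA) := hP1.isoPullback.symm ≪≫ pullbackSpecIso A B A'
  have he : e.hom ≫ Spec.map (CommRingCat.ofHom (algebraMap A' BA)) = pullback.snd f b := by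
    rw [← hP1.isoPullback_inv_snd, Iso.trans_hom, Iso.symm_hom, Category.assoc]
    congr 1
    exact pullbackSpecIso_hom_snd A B A'
  -- the surjection from `C`
  obtain ⟨φ, hφ⟩ := huniv (D := BA) (fun i => g i ⊗ₜ[A] (1 : A')) fun i => by
    rw [aeval_def, eval₂_map]
    have : (algebraMap A' BA).comp (algebraMap A A') =
        (Algebra.TensorProduct.includeLeft : B →ₐ[A] BA).toRingHom.comp (algebraMap A B) := by
      ext x
      show (1 : B) ⊗ₜ[A] algebraMap A A' x = algebraMap A B x ⊗ₜ[A] (1 : A')
      rw [Algebra.algebraMap_eq_smul_one, Algebra.algebraMap_eq_smul_one, TensorProduct.smul_tmul]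
    rw [this, show g i ⊗ₜ[A] (1 : A') = (Algebra.TensorProduct.includeLeft : B →ₐ[A] BA).toRingHom (g i) from rfl,
      ← Polynomial.hom_eval₂, show Polynomial.eval₂ (algebraMap A B) (g i) (P i) = 0 from hP i, map_zero]
  have hsurj : Function.Surjective φ := by
    intro z
    induction z using TensorProduct.induction_on with
    | zero => exact ⟨0, map_zero φ⟩
    | add x y hx hy =>
      obtain ⟨p, rfl⟩ := hx; obtain ⟨q, rfl⟩ := hy
      exact ⟨p + q, map_add φ p q⟩
    | tmul x y =>
      suffices hx : ∃ p, φ p = x ⊗ₜ[A] (1 : A') by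
        obtain ⟨p, hp⟩ := hx
        refine ⟨p * algebraMap A' C y, ?_⟩
        rw [map_mul, φ.commutes, hp]
        show x ⊗ₜ[A] (1 : A') * (1 : B) ⊗ₜ[A] y = _
        rw [Algebra.TensorProduct.tmul_mul_tmul, mul_one, one_mul]
      have hx : x ∈ Algebra.adjoin A (Set.range g) := hg ▸ Algebra.mem_top
      induction hx using Algebra.adjoin_induction with
      | mem x hx => obtain ⟨i, rfl⟩ := hx; exact ⟨T i, hφ i⟩
      | algebraMap r =>
        refine ⟨algebraMap A' C (algebraMap A A' r), ?_⟩
        rw [φ.commutes]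
        show (1 : B) ⊗ₜ[A] algebraMap A A' r = _
        rw [Algebra.algebraMap_eq_smul_one, Algebra.algebraMap_eq_smul_one, TensorProduct.smul_tmul]
      | add x y _ _ hx hy =>
        obtain ⟨p, hp⟩ := hx; obtain ⟨q, hq⟩ := hy
        exact ⟨p + q, by rw [map_add, hp, hq, TensorProduct.add_tmul]⟩
      | mul x y _ _ hx hy =>
        obtain ⟨p, hp⟩ := hx; obtain ⟨q, hq⟩ := hy
        exact ⟨p * q, by rw [map_mul, hp, hq, Algebra.TensorProduct.tmul_mul_tmul, mul_one]⟩
  -- the sections
  let J := ∀ i, Fin (d i)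
  choose ψ hψ using fun j : J => huniv (D := A') (fun i => a i (j i)) fun i => by
    rw [aeval_def, Algebra.algebraMap_self, eval₂_map, RingHom.id_comp, ← eval_map, ha i, eval_prod]
    exact Finset.prod_eq_zero (Finset.mem_univ (j i)) (by simp)
  haveI : Surjective b := by
    haveI : Surjective (Spec.map (CommRingCat.ofHom (algebraMap A A'))) :=
      ⟨PrimeSpectrum.comap_surjective_of_faithfullyFlat⟩
    exact inferInstanceAs (Surjective (Spec.map (CommRingCat.ofHom (algebraMap A A')) ≫ X.isoSpec.inv))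
  refine ⟨_, b, Spec (CommRingCat.of C), Spec.map (CommRingCat.ofHom (algebraMap A' C)),
    e.hom ≫ Spec.map (CommRingCat.ofHom φ.toRingHom), ?_, inferInstance, isFinLocFree_SpecMap, ?_, ?_,
    Fintype.card J, fun _ => Spec (CommRingCat.of A'),
    fun j => Spec.map (CommRingCat.ofHom (ψ ((Fintype.equivFin J).symm j)).toRingHom), fun j => ?_, fun j => ?_, ?_⟩
  · obtain ⟨h1, h2, h3⟩ := isFinLocFree_SpecMap (R := A) (S := A')
    exact ⟨inferInstance, inferInstance, inferInstance⟩
  · haveI : IsClosedImmersion (Spec.map (CommRingCat.ofHom φ.toRingHom)) :=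
      IsClosedImmersion.spec_of_surjective _ hsurj
    infer_instance
  · rw [Category.assoc, ← Spec.map_comp, ← CommRingCat.ofHom_comp,
      show φ.toRingHom.comp (algebraMap A' C) = algebraMap A' BA from φ.comp_algebraMap, he]
  · exact IsClosedImmersion.spec_of_surjective _
      (fun y => ⟨algebraMap A' C y, (ψ _).commutes y⟩)
  · rw [← Spec.map_comp, ← CommRingCat.ofHom_comp,
      show (ψ _).toRingHom.comp (algebraMap A' C) = RingHom.id A' from (ψ _).comp_algebraMap]
    rw [CommRingCat.ofHom_id, Spec.map_id]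
    infer_instance
  · refine Set.eq_univ_of_forall fun (p : PrimeSpectrum C) => ?_
    have hj : ∀ i, ∃ j : Fin (d i), T i - algebraMap A' C (a i j) ∈ p.asIdeal := fun i => by
      have h := hT i
      rw [ha i, map_prod] at h
      obtain ⟨j, -, hj⟩ := (Ideal.IsPrime.prod_mem_iff (hp := p.2)).1 (h ▸ p.asIdeal.zero_mem)
      exact ⟨j, by simpa using hj⟩
    choose j hj using hj
    refine Set.mem_iUnion.2 ⟨Fintype.equivFin J j, ?_⟩
    simp only [Equiv.symm_apply_apply]
    have heq : (Ideal.Quotient.mkₐ A' p.asIdeal).comp ((Algebra.ofId A' C).comp (ψ j)) =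
        Ideal.Quotient.mkₐ A' p.asIdeal := hext _ _ fun i => by
      simp only [AlgHom.comp_apply, hψ, Algebra.ofId_apply, Ideal.Quotient.mkₐ_eq_mk]
      exact ((Ideal.Quotient.eq).2 (hj i)).symm
    have hker : RingHom.ker (ψ j).toRingHom ≤ p.asIdeal := fun x hx => by
      have h := DFunLike.congr_fun heq x
      simp only [AlgHom.comp_apply, Ideal.Quotient.mkₐ_eq_mk] at h
      rw [show ψ j x = 0 from hx, map_zero, map_zero] at h
      exact Ideal.Quotient.eq_zero_iff_mem.1 h.symm
    show p ∈ Set.range (PrimeSpectrum.comap (ψ j).toRingHom)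
    rw [range_comap_of_surjective _ _ (fun y => ⟨algebraMap A' C y, (ψ j).commutes y⟩)]
    exact (PrimeSpectrum.mem_zeroLocus _ _).2 hker

end Groth.Agent.H17.FiniteSplit
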